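import Groth.Agent.Models.H74.PicTorsGalois
import Groth.Agent.Picfga.GaloisAct

/-!
# Counting torsion classes which all come from the ground field

`main`: `f : C ⟶ Spec k` a smooth proper curve with `H⁰(C, O_C) = k`, `l` invertible in `k`, `Ω` a separable closure of
`k`. If every `l`-torsion class over `Ω` comes from `k`, then `Pic(C)[l]` has `l ^ (2 g)` elements.
-/

set_option autoImplicit false
universe u
open CategoryTheory CategoryTheory.Limits AlgebraicGeometry

namespace K326.Count

open Groth.Agent.Grpsch.PicGrp Groth.Agent.Picfga.FieldSections Groth.Agent.Models.H74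

theorem main (k : Type u) [Field k] {C : Scheme.{u}} (f : C ⟶ Spec (CommRingCat.of k))
    (hC : Curve.IsSmoothProperCurve k C f) (hH0 : IsIso f.appTop) (l : ℕ) (hlk : (l : k) ≠ 0)
    (Ω : Type u) [Field Ω] [Algebra k Ω] [IsSepClosure k Ω]
    (hsurj : ∀ c : Pic (pullback f (bc k Ω)), c ^ l = 1 → ∃ a : Pic C, pull (pullback.fst f (bc k Ω)) a = c) :
    Nat.card {c : Pic C // c ^ l = 1} = l ^ (2 * Models.curveGenus k C f) := by
  have hsc : IsSepClosed Ω := IsSepClosure.sep_closed k
  have hsep : Algebra.IsSeparable k Ω := IsSepClosure.separable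
  have hpb := IsPullback.of_hasPullback f (bc k Ω)
  have hpr : IsProper f := hC.1
  have hCΩ := CurveBC.isSmoothProperCurve f hpb hC
  have hHΩ := CurveBC.isIso_appTop f hpb
  have hlΩ : (l : Ω) ≠ 0 := by
    rw [← map_natCast (algebraMap k Ω) l]
    exact (map_ne_zero (algebraMap k Ω)).mpr hlk
  rw [PicInj.card_eq _ (PicInj.pull_injective f hpb) l hsurj,
    PicTorsGalois.card_torsion_sepClosed (pullback.snd f (bc k Ω)) hCΩ l hlΩ, CurveBC.curveGenus_eq f hpb]

/-- Variant with the hypotheses of the row. -/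
theorem main' (k : Type u) [Field k] {C : Scheme.{u}} (f : C ⟶ Spec (CommRingCat.of k))
    (hC : Curve.IsSmoothProperCurve k C f) (hH0 : IsIso f.appTop) (_ : 2 ≤ Models.curveGenus k C f) (l : ℕ)
    (_ : l.Prime) (hlk : (l : k) ≠ 0) (Ω : Type u) [Field Ω] [Algebra k Ω] [IsSepClosure k Ω]
    (hsurj : ∀ c : Pic (pullback f (bc k Ω)), c ^ l = 1 → ∃ a : Pic C, pull (pullback.fst f (bc k Ω)) a = c) :
    Nat.card {c : Pic C // c ^ l = 1} = l ^ (2 * Models.curveGenus k C f) :=
  main k f hC hH0 l hlk Ω hsurj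

end K326.Count
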