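import Groth.Agent.CurvSt.K90.Qe
import Groth.Agent.CAlg.K89.DVRKummer
import Groth.Agent.S0505
import Mathlib.RingTheory.Invariant.Basic
import Mathlib.RingTheory.RootsOfUnity.Basic

/-!
# The tame extension `R[π^(1/n)]` and the action of the roots of unity

`R` a discrete valuation ring with uniformizer `π`, `Q n π = R[T]/(T ^ n - π)` (`K90.Hurw.Q`).

* `Mu n R`: the `n`-th roots of unity of `R`, acting on `Q n π` by `ζ • T = ζ T`;
* `isInvariant`: the invariants are `R`, if `R` contains a primitive `n`-th root of unity;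
* `smul_sub_mem`: the action on the residue field is trivial;
* `chi`: the embedding `Q l π → Q (l * m) π`, `T ↦ T ^ m`; it is fixed by the `ζ` with `ζ ^ m = 1`.
-/

set_option autoImplicit false
universe u

open Polynomial IsLocalRing K90.Hurw K90.Hurw.Q

namespace K326.KumRing

/-- The group of `n`-th roots of unity. -/
def Mu (n : ℕ) (R : Type u) [CommRing R] : Type u := rootsOfUnity n R

noncomputable instance (n : ℕ) (R : Type u) [CommRing R] : CommGroup (Mu n R) :=
  inferInstanceAs (CommGroup (rootsOfUnity n R))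

section Action

variable {R : Type u} [CommRing R] {n : ℕ}

/-- The underlying element of a root of unity. -/
def val (ζ : Mu n R) : R := Units.val (Subtype.val (p := fun x : Rˣ => x ∈ rootsOfUnity n R) ζ)

theorem val_one : val (1 : Mu n R) = 1 := rfl

theorem val_mul (ζ ξ : Mu n R) : val (ζ * ξ) = val ζ * val ξ := rfl

theorem val_pow' (ζ : Mu n R) (k : ℕ) : val (ζ ^ k) = val ζ ^ k := by
  induction k with
  | zero => rw [pow_zero, pow_zero, val_one]
  | succ k ih => rw [pow_succ, pow_succ, val_mul, ih]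

theorem val_pow (ζ : Mu n R) : val ζ ^ n = 1 := by
  have h := (mem_rootsOfUnity n _).1 (Subtype.property (p := fun x : Rˣ => x ∈ rootsOfUnity n R) ζ)
  exact congrArg Units.val h

theorem val_injective : Function.Injective (val : Mu n R → R) := fun _ _ h => Subtype.ext (Units.ext h)

theorem exists_val (hn : n ≠ 0) {z : R} (hz : z ^ n = 1) : ∃ ζ : Mu n R, val ζ = z := by
  have hu : IsUnit z := IsUnit.of_pow_eq_one hz hn
  obtain ⟨u, rfl⟩ := hu
  exact ⟨⟨u, (mem_rootsOfUnity n u).2 (Units.ext (by rw [Units.val_pow_eq_pow_val, hz, Units.val_one]))⟩, rfl⟩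

theorem pow_eq_one (ζ : Mu n R) : ζ ^ n = 1 := val_injective (by rw [val_pow', val_pow, val_one])

theorem finite [IsDomain R] (hn : n ≠ 0) : Finite (Mu n R) := by
  have : NeZero n := ⟨hn⟩
  exact inferInstanceAs (Finite (rootsOfUnity n R))

variable (π : R)

/-- The automorphism `T ↦ ζ T`. -/
noncomputable def sig (ζ : Mu n R) : Q n π →ₐ[R] Q n π :=
  AdjoinRoot.liftAlgHom _ (Algebra.ofId R (Q n π)) (algebraMap R (Q n π) (val ζ) * T n π) (by
    rw [eval₂_sub, eval₂_pow, eval₂_X, eval₂_C, mul_pow, ← map_pow, val_pow, map_one, one_mul, T_pow, sub_eq_zero]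
    rfl)

theorem sig_T (ζ : Mu n R) : sig π ζ (T n π) = algebraMap R (Q n π) (val ζ) * T n π :=
  AdjoinRoot.liftAlgHom_root _ _ _ _

/-- The action of the roots of unity. -/
noncomputable instance : MulSemiringAction (Mu n R) (Q n π) where
  smul ζ x := sig π ζ x
  one_smul x := by
    change sig π 1 x = x
    have h : sig π (1 : Mu n R) = AlgHom.id R (Q n π) := by
      refine AdjoinRoot.algHom_ext ?_
      rw [sig_T, val_one, map_one, one_mul]
      rfl
    rw [h]
    rfl
  mul_smul ζ ξ x := by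
    change sig π (ζ * ξ) x = sig π ζ (sig π ξ x)
    have h : sig π (ζ * ξ) = (sig π ζ).comp (sig π ξ) := by
      refine AdjoinRoot.algHom_ext ?_
      rw [sig_T, AlgHom.comp_apply, sig_T, map_mul, sig_T, AlgHom.commutes, val_mul, map_mul]
      ring
    rw [h]
    rfl
  smul_zero ζ := map_zero (sig π ζ)
  smul_add ζ := map_add (sig π ζ)
  smul_one ζ := map_one (sig π ζ)
  smul_mul ζ := map_mul (sig π ζ)

theorem smul_def' (ζ : Mu n R) (x : Q n π) : ζ • x = sig π ζ x := rfl

theorem smul_T (ζ : Mu n R) : ζ • T n π = algebraMap R (Q n π) (val ζ) * T n π := sig_T π ζ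

theorem smul_algebraMap' (ζ : Mu n R) (r : R) : ζ • algebraMap R (Q n π) r = algebraMap R (Q n π) r :=
  (sig π ζ).commutes r

instance : SMulCommClass (Mu n R) R (Q n π) := ⟨fun ζ r x => map_smul (sig π ζ) r x⟩

theorem smul_eq_sum [Nontrivial R] (hn : n ≠ 0) (ζ : Mu n R) (x : Q n π) :
    ζ • x = ∑ i : Fin n, algebraMap R (Q n π) (val ζ ^ (i : ℕ) * (basis n π hn).repr x i) * T n π ^ (i : ℕ) := by
  conv_lhs => rw [eq_sum n π hn x, smul_def', map_sum]
  refine Finset.sum_congr rfl fun i _ => ?_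
  rw [map_mul, AlgHom.commutes, map_pow, sig_T, mul_pow, map_mul, map_pow]
  ring

theorem repr_smul [Nontrivial R] (hn : n ≠ 0) (ζ : Mu n R) (x : Q n π) (i : Fin n) :
    (basis n π hn).repr (ζ • x) i = val ζ ^ (i : ℕ) * (basis n π hn).repr x i := by
  rw [smul_eq_sum π hn, repr_sum n π hn (fun i => val ζ ^ (i : ℕ) * (basis n π hn).repr x i)]

/-- The invariants. -/
theorem isInvariant [IsDomain R] (hn : n ≠ 0) {z : R} (hz : IsPrimitiveRoot z n) :
    Algebra.IsInvariant R (Q n π) (Mu n R) := by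
  refine ⟨fun x hx => ?_⟩
  obtain ⟨ζ, hζ⟩ := exists_val hn hz.pow_eq_one
  have h1 : ∀ i : Fin n, (i : ℕ) ≠ 0 → (basis n π hn).repr x i = 0 := by
    intro i hi
    have h2 := repr_smul π hn ζ x i
    rw [hx, hζ] at h2
    have h3 : (z ^ (i : ℕ) - 1) * (basis n π hn).repr x i = 0 := by
      rw [sub_mul, one_mul, sub_eq_zero]
      exact h2.symm
    refine (mul_eq_zero.1 h3).resolve_left fun h4 => ?_
    exact hz.pow_ne_one_of_pos_of_lt hi i.2 (sub_eq_zero.1 h4)
  refine ⟨(basis n π hn).repr x ⟨0, Nat.pos_of_ne_zero hn⟩, ?_⟩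
  conv_rhs => rw [eq_sum n π hn x]
  rw [Finset.sum_eq_single ⟨0, Nat.pos_of_ne_zero hn⟩]
  · rw [pow_zero, mul_one]
  · intro i _ hi
    rw [h1 i fun h => hi (Fin.ext h), map_zero, zero_mul]
  · intro h
    exact absurd (Finset.mem_univ _) h

theorem module_finite [Nontrivial R] (hn : n ≠ 0) : Module.Finite R (Q n π) :=
  Module.Finite.of_basis (basis n π hn)

end Action

section Chi

variable {R : Type u} [CommRing R] (l m : ℕ) (π : R)

/-- The embedding `R[π^(1/l)] → R[π^(1/(l m))]`. -/
noncomputable def chi : Q l π →ₐ[R] Q (l * m) π :=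
  AdjoinRoot.liftAlgHom _ (Algebra.ofId R (Q (l * m) π)) (T (l * m) π ^ m) (by
    rw [eval₂_sub, eval₂_pow, eval₂_X, eval₂_C, ← pow_mul, mul_comm m l, T_pow, sub_eq_zero]
    rfl)

theorem chi_T : chi l m π (T l π) = T (l * m) π ^ m := AdjoinRoot.liftAlgHom_root _ _ _ _

theorem smul_chi (ζ : Mu (l * m) R) (h : ζ ^ m = 1) (x : Q l π) : ζ • chi l m π x = chi l m π x := by
  have h1 : (sig π ζ).comp (chi l m π) = chi l m π := by
    refine AdjoinRoot.algHom_ext ?_
    rw [AlgHom.comp_apply, chi_T, map_pow, sig_T, mul_pow, ← map_pow, ← val_pow', h, val_one, map_one, one_mul]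
  exact congrArg (fun f : Q l π →ₐ[R] Q (l * m) π => f x) h1

end Chi

section DVR

variable {R : Type u} [CommRing R] [IsDomain R] [IsDiscreteValuationRing R] {n : ℕ} {π : R} (hπ : Irreducible π)
  (hn : n ≠ 0)

include hπ hn

theorem algebraMap_injective : Function.Injective (algebraMap R (Q n π)) := by
  have h1 := Q.isDomain hπ hn
  have h2 := Q.isDiscreteValuationRing hπ hn
  have h3 := Q.isLocalHom hπ hn
  rw [injective_iff_map_eq_zero]
  intro x hx
  by_contra h0
  obtain ⟨k, hk⟩ := IsDiscreteValuationRing.associated_pow_irreducible h0 hπ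
  obtain ⟨c, hc⟩ := hk.symm
  rw [← hc, map_mul, map_pow, ← T_pow] at hx
  rcases mul_eq_zero.1 hx with h4 | h4
  · exact T_ne_zero hπ hn (eq_zero_of_pow_eq_zero (eq_zero_of_pow_eq_zero h4))
  · exact (c.isUnit.map (algebraMap R (Q n π))).ne_zero h4

theorem irreducible_T [IsDomain (Q n π)] [IsDiscreteValuationRing (Q n π)] : Irreducible (T n π) := by
  rw [IsDiscreteValuationRing.irreducible_iff_uniformizer]
  exact maximalIdeal_eq hπ hn

/-- The action on the residue field is trivial. -/
theorem smul_sub_mem [IsLocalRing (Q n π)] (ζ : Mu n R) (x : Q n π) : ζ • x - x ∈ maximalIdeal (Q n π) := by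
  obtain ⟨c, y, rfl⟩ := exists_const hn x
  rw [smul_add, smul_mul', smul_algebraMap', smul_T, maximalIdeal_eq hπ hn, Ideal.mem_span_singleton]
  exact ⟨algebraMap R (Q n π) (val ζ) * (ζ • y) - y, by ring⟩

/-- The residue field does not grow. -/
theorem exists_sub_mem [IsLocalRing (Q n π)] (x : Q n π) : ∃ c : R, x - algebraMap R (Q n π) c ∈ maximalIdeal (Q n π) := by
  obtain ⟨c, y, rfl⟩ := exists_const hn x
  refine ⟨c, ?_⟩
  rw [maximalIdeal_eq hπ hn, Ideal.mem_span_singleton]
  exact ⟨y, by ring⟩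

end DVR

theorem henselianLocalRing {R : Type u} [CommRing R] {n : ℕ} (π : R) (hn : n ≠ 0) [HenselianLocalRing R]
    [IsLocalRing (Q n π)] : HenselianLocalRing (Q n π) := by
  have := module_finite (n := n) π hn
  exact Groth.Agent.S0505.result R (Q n π)

section Chi

variable {R : Type u} [CommRing R] [IsDomain R] [IsDiscreteValuationRing R] {l m : ℕ} {π : R} (hπ : Irreducible π)
  (hl : l ≠ 0) (hm : m ≠ 0)

include hπ hl hm

theorem chi_injective : Function.Injective (chi l m π) := by
  have h1 := Q.isDomain hπ hl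
  have h3 := module_finite (n := l) π hl
  have h4 : Algebra.IsIntegral R (Q l π) := inferInstance
  have h5 : RingHom.ker (chi l m π) = ⊥ := by
    refine Ideal.eq_bot_of_comap_eq_bot (R := R) ?_
    rw [eq_bot_iff]
    intro r hr
    rw [Ideal.mem_comap, RingHom.mem_ker] at hr
    have h6 : algebraMap R (Q (l * m) π) r = 0 := by
      rw [← hr]
      exact ((chi l m π).commutes r).symm
    exact algebraMap_injective hπ (mul_ne_zero hl hm) (by rw [h6, map_zero])
  exact (RingHom.injective_iff_ker_eq_bot _).2 h5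

end Chi

end K326.KumRing
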