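import Groth.Agent.Models.K326.TwoPrimes
import Groth.Agent.Models.K381.CoreNP

/-!
# Semistable reduction from the torsion of the Picard groups over the tame extensions

`main`: `R` a henselian discrete valuation ring with algebraically closed residue field and uniformizer `π`, `C` a curve
of genus `g ≥ 2` over its fraction field. If for every large prime `l` the `l`-torsion of the Picard group of `C` over
the fraction field of `R[π^(1/l)]` has `l ^ (2 g)` elements, then `C` has semistable reduction over `R`.
-/

set_option autoImplicit false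
universe u

open CategoryTheory CategoryTheory.Limits AlgebraicGeometry K954
open Groth.Agent.Grpsch.PicGrp

namespace K326.OfCard

/-- The residue field of a finite extension of a local ring with algebraically closed residue field is algebraically
closed. -/
theorem isAlgClosed_residueField (R R₁ : Type u) [CommRing R] [IsLocalRing R] [CommRing R₁] [IsDomain R₁]
    [IsLocalRing R₁] [Algebra R R₁] [Module.Finite R R₁] (hinj : Function.Injective (algebraMap R R₁))
    [IsAlgClosed (IsLocalRing.ResidueField R)] : IsAlgClosed (IsLocalRing.ResidueField R₁) := by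
  have hint : Algebra.IsIntegral R R₁ := inferInstance
  have hloc : IsLocalHom (algebraMap R R₁) := (algebraMap_isIntegral_iff.mpr hint).isLocalHom hinj
  have h1 : Algebra.IsIntegral (IsLocalRing.ResidueField R) (IsLocalRing.ResidueField R₁) := by
    have h2 : Algebra.IsIntegral R (IsLocalRing.ResidueField R₁) := by
      refine ⟨fun x => ?_⟩
      obtain ⟨y, rfl⟩ := IsLocalRing.residue_surjective x
      exact (Algebra.IsIntegral.isIntegral (R := R) y).algebraMap
    exact Algebra.IsIntegral.tower_top R
  have h3 : Function.Bijective (algebraMap (IsLocalRing.ResidueField R) (IsLocalRing.ResidueField R₁)) :=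
    IsAlgClosed.algebraMap_bijective_of_isIntegral
  exact IsAlgClosed.of_ringEquiv _ _ (RingEquiv.ofBijective _ h3)

theorem exists_prime (k : Type u) [Field k] (N : ℕ) : ∃ l : ℕ, N < l ∧ l.Prime ∧ (l : k) ≠ 0 := by
  obtain ⟨l, hl, hp⟩ := Nat.exists_infinite_primes (max (N + 1) (ringChar k + 1))
  refine ⟨l, by omega, hp, fun h => ?_⟩
  have h1 := (CharP.cast_eq_zero_iff k (ringChar k) l).1 h
  rcases (Nat.dvd_prime hp).1 h1 with h2 | h2
  · exact CharP.ringChar_ne_one h2
  · omega

theorem main (R : Type u) [CommRing R] [IsDomain R] [IsDiscreteValuationRing R] [HenselianLocalRing R]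
    [IsAlgClosed (IsLocalRing.ResidueField R)] {π : R} (hπ : Irreducible π)
    {C : Scheme.{u}} (f : C ⟶ Spec (CommRingCat.of (FractionRing R)))
    (hC : Curve.IsSmoothProperCurve (FractionRing R) C f) (hC0 : IsIso f.appTop)
    (hg : 2 ≤ Models.curveGenus (FractionRing R) C f)
    (hcard : ∀ l : ℕ, l.Prime → (l : IsLocalRing.ResidueField R) ≠ 0 → 768 * Models.curveGenus (FractionRing R) C f < l →
      ∀ (R₁ : Type u) [CommRing R₁] [IsDomain R₁] [IsDiscreteValuationRing R₁] [Algebra R R₁] [Module.Finite R R₁]
        (hinj : Function.Injective (algebraMap R R₁)) (w : R₁) (_ : Irreducible w) (_ : w ^ l = algebraMap R R₁ π),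
        Nat.card {c : Pic (pullback f (Spec.map (CommRingCat.ofHom (RingAct.fracMap R R₁ hinj)))) // c ^ l = 1} =
          l ^ (2 * Models.curveGenus (FractionRing R) C f)) :
    Models.HasSemistableReduction R C f := by
  have hfp : IsProper f := hC.1
  have key : ∀ l : ℕ, l.Prime → (l : IsLocalRing.ResidueField R) ≠ 0 →
      768 * Models.curveGenus (FractionRing R) C f < l → TwoSub.Good R π l f := by
    intro l hl hlk hlg R₁ _ _ _ _ _ hinj w hw hwl
    obtain ⟨h1, h2⟩ := Groth.Agent.Models.H57.GeoInt.isSmoothProperCurve_pullback f hC hC0 (RingAct.fracMap R R₁ hinj)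
    have hk := isAlgClosed_residueField R R₁ hinj
    have h3 : Models.curveGenus (FractionRing R₁) (pullback f (Spec.map (CommRingCat.ofHom (RingAct.fracMap R R₁ hinj))))
        (pullback.snd f (Spec.map (CommRingCat.ofHom (RingAct.fracMap R R₁ hinj)))) =
        Models.curveGenus (FractionRing R) C f :=
      ActExt.curveGenus_of_isPullback _ (IsPullback.of_hasPullback _ _)
    have hlk₁ : (l : IsLocalRing.ResidueField R₁) ≠ 0 := by
      have h4 : IsUnit (l : R) := by
        by_contra h
        exact hlk (by rw [← map_natCast (IsLocalRing.residue R), IsLocalRing.residue_eq_zero_iff]; exact h)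
      have h5 := (h4.map (algebraMap R R₁)).map (IsLocalRing.residue R₁)
      rw [map_natCast, map_natCast] at h5
      exact h5.ne_zero
    exact Groth.Agent.Models.K381.CoreNP.main R₁ hk _ _ h1 h2 _ hg h3 l hl hlk₁ hlg (hcard l hl hlk hlg R₁ hinj w hw hwl)
  obtain ⟨l, hl1, hl2, hl3⟩ := exists_prime (IsLocalRing.ResidueField R) (768 * Models.curveGenus (FractionRing R) C f)
  obtain ⟨m, hm1, hm2, hm3⟩ := exists_prime (IsLocalRing.ResidueField R) l
  have hu : ∀ n : ℕ, (n : IsLocalRing.ResidueField R) ≠ 0 → IsUnit (n : R) := fun n hn => by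
    by_contra h
    exact hn (by rw [← map_natCast (IsLocalRing.residue R), IsLocalRing.residue_eq_zero_iff]; exact h)
  exact TwoPrimes.main R hπ ((Nat.coprime_primes hl2 hm2).2 hm1.ne) (hu l hl3) (hu m hm3) f hC hC0 hg
    (key l hl2 hl3 hl1) (key m hm2 hm3 (hl1.trans hm1))

end K326.OfCard
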