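import Groth.Agent.Models.K954.ActExt
import Groth.Agent.Models.K954.GenLift
import Groth.Agent.S16553

/-!
# Automorphisms of stable models coming from a subextension are trivial on the closed fibre

`R'` a discrete valuation ring with an action of a group `G` which is trivial on the residue field, `Y` the stable
model over `R'` of a curve, on which `G` acts semilinearly.

* `fixSubgroup`: the elements of `G` acting trivially on a morphism `i : X ⟶ Y`.
* `main`: if `g` fixes the image of `χ : R₁ → R'` and the curve has a stable model over `R₁`, then `g` acts trivially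
  on the closed fibre of `Y`.
-/

set_option autoImplicit false
universe u

open CategoryTheory CategoryTheory.Limits AlgebraicGeometry K954

namespace K326.TrivFib

section Fix

variable {X Y : Scheme.{u}} {G : Type u} [Group G] (a : G →* Aut Y) (i : X ⟶ Y)

/-- The elements acting trivially on `i`. -/
def fixSubgroup : Subgroup G where
  carrier := {g | i ≫ (a g).hom = i}
  one_mem' := by
    change i ≫ (a 1).hom = i
    rw [Groth.Agent.Sga1.QuotBasic.hom_one, Category.comp_id]
  mul_mem' := by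
    intro g h hg hh
    change i ≫ (a (g * h)).hom = i
    change i ≫ (a g).hom = i at hg
    change i ≫ (a h).hom = i at hh
    rw [Groth.Agent.Sga1.QuotBasic.hom_mul, ← Category.assoc, hh, hg]
  inv_mem' := by
    intro g hg
    change i ≫ (a g⁻¹).hom = i
    change i ≫ (a g).hom = i at hg
    have h1 : (a g⁻¹).hom = (a g).inv := by
      rw [map_inv]
      rfl
    rw [h1, Iso.comp_inv_eq, hg]

theorem mem_fixSubgroup {g : G} : g ∈ fixSubgroup a i ↔ i ≫ (a g).hom = i := Iff.rfl

end Fix

theorem ext53 : ActExt.Ext53.{u} := by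
  intro R _ _ _ X Y fX fY hX hX0 hY hY0 hg f _ hf XR p _ hp hps iX hiX YR q _ hq hqs iY hiY
  exact Groth.Agent.S16553.result R X Y fX fY hX hX0 hY hY0 hg f hf XR p hp hps iX hiX YR q hq hqs iY hiY

section Uniq

variable {R : Type u} [CommRing R] [IsDomain R] [IsDiscreteValuationRing R]

/-- Stable models are unique. -/
theorem exists_iso {C Y Z : Scheme.{u}} {f : C ⟶ Spec (CommRingCat.of (FractionRing R))}
    (hC : Curve.IsSmoothProperCurve (FractionRing R) C f) (hC0 : IsIso f.appTop)
    (hg : 2 ≤ Models.curveGenus (FractionRing R) C f)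
    {p : Y ⟶ Spec (CommRingCat.of R)} {m : ℕ} (hp : StabFam.IsStab p m) {i : C ⟶ Y}
    (hi : IsPullback i f p (Spec.map (CommRingCat.ofHom (algebraMap R (FractionRing R)))))
    {q : Z ⟶ Spec (CommRingCat.of R)} {n : ℕ} (hq : StabFam.IsStab q n) {j : C ⟶ Z}
    (hj : IsPullback j f q (Spec.map (CommRingCat.ofHom (algebraMap R (FractionRing R))))) :
    ∃ e : Y ≅ Z, e.hom ≫ q = p ∧ i ≫ e.hom = j := by
  have hp1 : Flat p := hp.1
  have hp2 : IsProper p := hp.2.1
  have hq1 : Flat q := hq.1
  have hq2 : IsProper q := hq.2.1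
  obtain ⟨φ, h1, h2⟩ := ext53 R C C f f hC hC0 hC hC0 hg (𝟙 C) (Category.id_comp _) Y p hp.isNodalFamily hp.noExcComp
    i hi Z q hq.isNodalFamily hq.noExcComp j hj
  obtain ⟨φ', h3, h4⟩ := ext53 R C C f f hC hC0 hC hC0 hg (𝟙 C) (Category.id_comp _) Z q hq.isNodalFamily hq.noExcComp
    j hj Y p hp.isNodalFamily hp.noExcComp i hi
  rw [Category.id_comp] at h2 h4
  refine ⟨⟨φ, φ', ?_, ?_⟩, h1, h2⟩
  · refine GenExt.ext hi p ?_ ?_
    · rw [Category.assoc, h3, h1, Category.id_comp]
    · rw [← Category.assoc, h2, h4, Category.comp_id]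
  · refine GenExt.ext hj q ?_ ?_
    · rw [Category.assoc, h1, h3, Category.id_comp]
    · rw [← Category.assoc, h4, h2, Category.comp_id]

end Uniq

section Main

variable {R' : Type u} [CommRing R'] [IsDomain R'] [IsDiscreteValuationRing R'] {G : Type u} [Group G]
  [MulSemiringAction G R']

theorem residue_comp (hres : ∀ (g : G) (r : R'), g • r - r ∈ IsLocalRing.maximalIdeal R') (g : G) :
    Spec.map (CommRingCat.ofHom (IsLocalRing.residue R')) ≫ (RingAct.specAct G R' g).hom =
      Spec.map (CommRingCat.ofHom (IsLocalRing.residue R')) := by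
  rw [RingAct.specAct_hom, ← Spec.map_comp, ← CommRingCat.ofHom_comp]
  congr 2
  ext r
  have h := hres g⁻¹ r
  rw [← IsLocalRing.residue_eq_zero_iff, map_sub, sub_eq_zero] at h
  exact h

/-- An element of `G` which fixes the image of `χ : R₁ → R'` acts trivially on the closed fibre of the stable model
over `R'` of a curve which has a stable model over `R₁`. -/
theorem main (hres : ∀ (g : G) (r : R'), g • r - r ∈ IsLocalRing.maximalIdeal R')
    {YL YR' : Scheme.{u}} {kY : YL ⟶ Spec (CommRingCat.of (FractionRing R'))}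
    (hYL : Curve.IsSmoothProperCurve (FractionRing R') YL kY) (hYL0 : IsIso kY.appTop)
    (hg : 2 ≤ Models.curveGenus (FractionRing R') YL kY)
    {q : YR' ⟶ Spec (CommRingCat.of R')} {n : ℕ} (hq : StabFam.IsStab q n) {j : YL ⟶ YR'}
    (hj : IsPullback j kY q (Spec.map (CommRingCat.ofHom (algebraMap R' (FractionRing R')))))
    (aL : G →* Aut YL) (a : G →* Aut YR') (ha : ∀ g, (a g).hom ≫ q = q ≫ (RingAct.specAct G R' g).hom)
    (haj : ∀ g, (aL g).hom ≫ j = j ≫ (a g).hom)
    {R₁ : Type u} [CommRing R₁] [IsDomain R₁] {χ : R₁ →+* R'}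
    {ψ : FractionRing R₁ →+* FractionRing R'}
    (hψ : ψ.comp (algebraMap R₁ (FractionRing R₁)) = (algebraMap R' (FractionRing R')).comp χ)
    {Z₁ Y₁ : Scheme.{u}} {k₁ : Z₁ ⟶ Spec (CommRingCat.of (FractionRing R₁))} {w : YL ⟶ Z₁}
    (hw : IsPullback w kY k₁ (Spec.map (CommRingCat.ofHom ψ)))
    {q₁ : Y₁ ⟶ Spec (CommRingCat.of R₁)} {n₁ : ℕ} (hq₁ : StabFam.IsStab q₁ n₁) {j₁ : Z₁ ⟶ Y₁}
    (hj₁ : IsPullback j₁ k₁ q₁ (Spec.map (CommRingCat.ofHom (algebraMap R₁ (FractionRing R₁)))))
    {g : G} (hg1 : ∀ r, g⁻¹ • χ r = χ r) (hgw : (aL g).hom ≫ w = w)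
    {Yk : Scheme.{u}} {ik : Yk ⟶ YR'} {fk : Yk ⟶ Spec (CommRingCat.of (IsLocalRing.ResidueField R'))}
    (hk : IsPullback ik fk q (Spec.map (CommRingCat.ofHom (IsLocalRing.residue R')))) :
    ik ≫ (a g).hom = ik := by
  have hq1 : Flat q := hq.1
  have hq2 : IsProper q := hq.2.1
  have hq₁2 : IsProper q₁ := hq₁.2.1
  have hY' : IsPullback (pullback.fst q₁ (Spec.map (CommRingCat.ofHom χ)))
    (pullback.snd q₁ (Spec.map (CommRingCat.ofHom χ))) q₁ (Spec.map (CommRingCat.ofHom χ)) :=
    IsPullback.of_hasPullback _ _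
  obtain ⟨j', hj'1, hj'⟩ := GenLift.isPullback_lift hψ hj₁ hw hY'
  obtain ⟨e, he1, he2⟩ := exists_iso hYL hYL0 hg hq hj (hq₁.of_isPullback hY') hj'
  have hχ : (RingAct.specAct G R' g).hom ≫ Spec.map (CommRingCat.ofHom χ) = Spec.map (CommRingCat.ofHom χ) := by
    rw [RingAct.specAct_hom, ← Spec.map_comp, ← CommRingCat.ofHom_comp]
    congr 2
    ext r
    exact hg1 r
  have h1 : (a g).hom ≫ e.hom ≫ pullback.fst q₁ (Spec.map (CommRingCat.ofHom χ)) =
      e.hom ≫ pullback.fst q₁ (Spec.map (CommRingCat.ofHom χ)) := by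
    refine GenExt.ext hj q₁ ?_ ?_
    · simp only [Category.assoc]
      rw [hY'.w, ← Category.assoc e.hom, he1, ← Category.assoc, ha, Category.assoc, hχ]
    · rw [← Category.assoc, ← haj, Category.assoc, ← Category.assoc j, he2, hj'1, ← Category.assoc, hgw]
  have h2 : ik ≫ q ≫ (RingAct.specAct G R' g).hom = ik ≫ q := by
    rw [← Category.assoc, hk.w, Category.assoc, residue_comp hres]
  rw [← cancel_mono e.hom]
  apply hY'.hom_ext
  · rw [Category.assoc, Category.assoc, h1, Category.assoc]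
  · rw [Category.assoc, Category.assoc, he1, ha, h2, Category.assoc, he1]

end Main

end K326.TrivFib
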