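import Groth.Agent.Models.K326.TwoSub
import Groth.Agent.Models.K954.TameDesc

/-!
# Semistable reduction over two tame extensions of coprime degrees

`main`: `R` a henselian discrete valuation ring with algebraically closed residue field and uniformizer `π`, `C` a curve
of genus at least two over its fraction field. If `C` has semistable reduction over `R[π^(1/l)]` and over `R[π^(1/m)]`,
where `l` and `m` are coprime and invertible in `R`, then `C` has semistable reduction over `R`.
-/

set_option autoImplicit false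
universe u

open CategoryTheory CategoryTheory.Limits AlgebraicGeometry K954 K90.Hurw K326.KumRing

namespace K326.TwoPrimes

theorem card_mu {R : Type u} [CommRing R] [IsDomain R] {n : ℕ} (hn : n ≠ 0) {z : R} (hz : IsPrimitiveRoot z n) :
    Nat.card (Mu n R) = n := by
  have : NeZero n := ⟨hn⟩
  exact hz.card_rootsOfUnity

export TwoSub (Good)

theorem main (R : Type u) [CommRing R] [IsDomain R] [IsDiscreteValuationRing R] [HenselianLocalRing R]
    [IsAlgClosed (IsLocalRing.ResidueField R)] {π : R} (hπ : Irreducible π) {l m : ℕ} (hlm : l.Coprime m)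
    (hl : IsUnit (l : R)) (hm : IsUnit (m : R)) {C : Scheme.{u}} (f : C ⟶ Spec (CommRingCat.of (FractionRing R)))
    (hC : Curve.IsSmoothProperCurve (FractionRing R) C f) (hC0 : IsIso f.appTop)
    (hg : 2 ≤ Models.curveGenus (FractionRing R) C f) (Hl : TwoSub.Good R π l f) (Hm : TwoSub.Good R π m f) :
    Models.HasSemistableReduction R C f := by
  obtain ⟨n, hn⟩ : ∃ n, l * m = n := ⟨_, rfl⟩
  have hl0 : l ≠ 0 := by
    rintro rfl
    rw [Nat.cast_zero] at hl
    exact not_isUnit_zero hl
  have hm0 : m ≠ 0 := by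
    rintro rfl
    rw [Nat.cast_zero] at hm
    exact not_isUnit_zero hm
  have hn0 : n ≠ 0 := by rw [← hn]; exact mul_ne_zero hl0 hm0
  have hnu : IsUnit (n : R) := by
    rw [← hn, Nat.cast_mul]
    exact hl.mul hm
  have hnk : (n : IsLocalRing.ResidueField R) ≠ 0 := by
    have h := hnu.map (IsLocalRing.residue R)
    rw [map_natCast] at h
    exact h.ne_zero
  obtain ⟨z, hz⟩ := K89.DVRKummer.exists_isPrimitiveRoot R n hnk
  have hd := Q.isDomain hπ hn0
  have hv := Q.isDiscreteValuationRing hπ hn0
  have hfin := module_finite (n := n) π hn0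
  have hhens := KumRing.henselianLocalRing (n := n) π hn0
  have hinj := KumRing.algebraMap_injective hπ hn0
  have hG : Finite (Mu n R) := KumRing.finite hn0
  have hinv := isInvariant π hn0 hz
  have hsq := IsPullback.of_hasPullback f (Spec.map (CommRingCat.ofHom (RingAct.fracMap R (Q n π) hinj)))
  have hρ2 : ∀ g : Mu n R, (RingAct.fracAct (Mu n R) (Q n π) g).hom ≫
      Spec.map (CommRingCat.ofHom (RingAct.fracMap R (Q n π) hinj)) =
      Spec.map (CommRingCat.ofHom (RingAct.fracMap R (Q n π) hinj)) := RingAct.fracAct_over R (Q n π) (Mu n R) hinj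
  let aL := K754.QuotFam.pullAct hsq.flip (RingAct.fracAct (Mu n R) (Q n π)) hρ2
  have haL1 : ∀ g, (aL g).hom ≫ pullback.fst _ _ = pullback.fst _ _ := K754.QuotFam.pullAct_right _ _ _
  have haL2 : ∀ g, (aL g).hom ≫ pullback.snd _ _ = pullback.snd _ _ ≫ (RingAct.fracAct (Mu n R) (Q n π) g).hom :=
    K754.QuotFam.pullAct_left _ _ _
  obtain ⟨Y, q, g, j, a, hq, hj, ha, haj, hk⟩ := TwoSub.main hπ hl0 hm0 hlm hn hC hC0 hg Hl Hm hinj hsq aL haL1 haL2
  refine TameDesc.main R (Q n π) hinj (Mu n R) ?_ f hC hC0 hsq q hq j hj aL haL1 haL2 a ha haj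
    (IsPullback.of_hasPullback q (Spec.map (CommRingCat.ofHom (IsLocalRing.residue (Q n π)))))
    (hk _ _ _ (IsPullback.of_hasPullback _ _))
  rw [card_mu hn0 hz]
  exact hnu

end K326.TwoPrimes
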