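import Groth.Agent.Models.K326.TrivFib
import Groth.Agent.Models.K326.KumRing
import Groth.Agent.Models.H57.GeoInt
import Groth.Agent.Curves.K754.QuotFam
import Groth.Agent.S16750

/-!
# Two tame extensions: the Galois group acts trivially on the closed fibre of the stable model

`R` a henselian discrete valuation ring with algebraically closed residue field and uniformizer `π`, `C` a curve of
genus at least two over its fraction field, `l` and `m` coprime and invertible in `R`. If `C` has semistable reduction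
over `R[π^(1/l)]` and over `R[π^(1/m)]`, then it has a stable model over `R[π^(1/(l m))]`, and the group of `l m`-th
roots of unity acts trivially on its closed fibre.
-/

set_option autoImplicit false
universe u

open CategoryTheory CategoryTheory.Limits AlgebraicGeometry K954 K90.Hurw K326.KumRing

namespace K326.TwoSub

section Side

variable {R R₁ R' : Type u} [CommRing R] [IsDomain R] [IsDiscreteValuationRing R] [CommRing R₁] [IsDomain R₁]
  [IsDiscreteValuationRing R₁] [CommRing R'] [IsDomain R'] [IsDiscreteValuationRing R'] [Algebra R R₁] [Algebra R R']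

omit [IsDiscreteValuationRing R] in
/-- The stable model over an extension. -/
theorem exists_stable (hinj₁ : Function.Injective (algebraMap R R₁)) {C : Scheme.{u}}
    {f : C ⟶ Spec (CommRingCat.of (FractionRing R))}
    (hC : Curve.IsSmoothProperCurve (FractionRing R) C f) (hC0 : IsIso f.appTop)
    (hg : 2 ≤ Models.curveGenus (FractionRing R) C f)
    (H : Models.HasSemistableReduction R₁ (pullback f (Spec.map (CommRingCat.ofHom (RingAct.fracMap R R₁ hinj₁))))
      (pullback.snd f (Spec.map (CommRingCat.ofHom (RingAct.fracMap R R₁ hinj₁))))) :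
    ∃ (Y₁ : Scheme.{u}) (q₁ : Y₁ ⟶ Spec (CommRingCat.of R₁)) (n₁ : ℕ)
      (j₁ : pullback f (Spec.map (CommRingCat.ofHom (RingAct.fracMap R R₁ hinj₁))) ⟶ Y₁),
      StabFam.IsStab q₁ n₁ ∧ IsPullback j₁ (pullback.snd f (Spec.map (CommRingCat.ofHom (RingAct.fracMap R R₁ hinj₁)))) q₁
        (Spec.map (CommRingCat.ofHom (algebraMap R₁ (FractionRing R₁)))) := by
  have hfp : IsProper f := hC.1
  obtain ⟨h1, h2⟩ := Groth.Agent.Models.H57.GeoInt.isSmoothProperCurve_pullback f hC hC0 (RingAct.fracMap R R₁ hinj₁)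
  have h3 : 2 ≤ Models.curveGenus (FractionRing R₁) (pullback f (Spec.map (CommRingCat.ofHom (RingAct.fracMap R R₁ hinj₁))))
      (pullback.snd f (Spec.map (CommRingCat.ofHom (RingAct.fracMap R R₁ hinj₁)))) := by
    rw [ActExt.curveGenus_of_isPullback _ (IsPullback.of_hasPullback _ _)]
    exact hg
  obtain ⟨Y₁, q₁, ⟨-, -, -, j₁, hj₁⟩, hq₁⟩ := (Groth.Agent.S16750.result R₁ _ _ h1 h2 h3).1 H
  exact ⟨Y₁, q₁, _, j₁, hq₁, hj₁⟩

omit [IsDiscreteValuationRing R] [IsDiscreteValuationRing R₁] [IsDiscreteValuationRing R'] in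
theorem fracMap_comp_fracMap (hinj₁ : Function.Injective (algebraMap R R₁)) (hinj : Function.Injective (algebraMap R R'))
    {χ : R₁ →+* R'} (hχφ : χ.comp (algebraMap R R₁) = algebraMap R R')
    {ψ : FractionRing R₁ →+* FractionRing R'}
    (hψ : ψ.comp (algebraMap R₁ (FractionRing R₁)) = (algebraMap R' (FractionRing R')).comp χ) :
    ψ.comp (RingAct.fracMap R R₁ hinj₁) = RingAct.fracMap R R' hinj := by
  refine IsLocalization.ringHom_ext (nonZeroDivisors R) ?_
  rw [RingHom.comp_assoc, RingAct.fracMap_comp, ← RingHom.comp_assoc, hψ, RingHom.comp_assoc, hχφ, RingAct.fracMap_comp]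

omit [IsDomain R₁] [IsDiscreteValuationRing R₁] [IsDiscreteValuationRing R'] in
theorem exists_psi {χ : R₁ →+* R'} (hχ : Function.Injective χ) :
    ∃ ψ : FractionRing R₁ →+* FractionRing R',
      ψ.comp (algebraMap R₁ (FractionRing R₁)) = (algebraMap R' (FractionRing R')).comp χ := by
  refine ⟨IsFractionRing.map hχ, RingHom.ext fun r => ?_⟩
  exact IsLocalization.map_eq (S := FractionRing R₁) (Q := FractionRing R') (g := χ)
    (nonZeroDivisors_le_comap_nonZeroDivisors_of_injective _ hχ) r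

/-- The curve over the big field is a base change of the curve over the small field. -/
theorem exists_w (hinj₁ : Function.Injective (algebraMap R R₁)) (hinj : Function.Injective (algebraMap R R'))
    {χ : R₁ →+* R'} (hχφ : χ.comp (algebraMap R R₁) = algebraMap R R')
    {ψ : FractionRing R₁ →+* FractionRing R'}
    (hψ : ψ.comp (algebraMap R₁ (FractionRing R₁)) = (algebraMap R' (FractionRing R')).comp χ)
    {C YL : Scheme.{u}} {f : C ⟶ Spec (CommRingCat.of (FractionRing R))} {gY : YL ⟶ C}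
    {kY : YL ⟶ Spec (CommRingCat.of (FractionRing R'))}
    (hYL : IsPullback gY kY f (Spec.map (CommRingCat.ofHom (RingAct.fracMap R R' hinj)))) :
    ∃ w : YL ⟶ pullback f (Spec.map (CommRingCat.ofHom (RingAct.fracMap R R₁ hinj₁))),
      w ≫ pullback.fst _ _ = gY ∧ w ≫ pullback.snd _ _ = kY ≫ Spec.map (CommRingCat.ofHom ψ) ∧
      IsPullback w kY (pullback.snd f (Spec.map (CommRingCat.ofHom (RingAct.fracMap R R₁ hinj₁))))
        (Spec.map (CommRingCat.ofHom ψ)) := by
  have h1 : Spec.map (CommRingCat.ofHom ψ) ≫ Spec.map (CommRingCat.ofHom (RingAct.fracMap R R₁ hinj₁)) =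
      Spec.map (CommRingCat.ofHom (RingAct.fracMap R R' hinj)) := by
    rw [← Spec.map_comp, ← CommRingCat.ofHom_comp, fracMap_comp_fracMap hinj₁ hinj hχφ hψ]
  let w : YL ⟶ pullback f (Spec.map (CommRingCat.ofHom (RingAct.fracMap R R₁ hinj₁))) :=
    pullback.lift gY (kY ≫ Spec.map (CommRingCat.ofHom ψ)) (by rw [Category.assoc, h1, hYL.w])
  refine ⟨w, pullback.lift_fst _ _ _, pullback.lift_snd _ _ _, ?_⟩
  refine IsPullback.of_right ?_ (pullback.lift_snd _ _ _) (IsPullback.of_hasPullback _ _)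
  rw [h1]
  have h2 : w ≫ pullback.fst f (Spec.map (CommRingCat.ofHom (RingAct.fracMap R R₁ hinj₁))) = gY := pullback.lift_fst _ _ _
  rw [h2]
  exact hYL

variable {G : Type u} [Group G] [MulSemiringAction G R']

omit [IsDomain R₁] [IsDiscreteValuationRing R₁] in
theorem fracAct_psi {χ : R₁ →+* R'} {ψ : FractionRing R₁ →+* FractionRing R'}
    (hψ : ψ.comp (algebraMap R₁ (FractionRing R₁)) = (algebraMap R' (FractionRing R')).comp χ) {g : G}
    (hg : ∀ r, g⁻¹ • χ r = χ r) :
    (RingAct.fracAct G R' g).hom ≫ Spec.map (CommRingCat.ofHom ψ) = Spec.map (CommRingCat.ofHom ψ) := by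
  let _ := RingAct.fracAction G R'
  change Spec.map (CommRingCat.ofHom (MulSemiringAction.toRingHom G (FractionRing R') g⁻¹)) ≫ _ = _
  rw [← Spec.map_comp, ← CommRingCat.ofHom_comp]
  congr 2
  refine IsLocalization.ringHom_ext (nonZeroDivisors R₁) ?_
  rw [RingHom.comp_assoc, hψ]
  ext r
  change g⁻¹ • algebraMap R' (FractionRing R') (χ r) = algebraMap R' (FractionRing R') (χ r)
  rw [RingAct.fracAction_algebraMap, hg]

/-- If `C` has semistable reduction over `R₁`, the elements of `G` fixing `R₁` act trivially on the closed fibre of the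
stable model over `R'`. -/
theorem side (hres : ∀ (g : G) (r : R'), g • r - r ∈ IsLocalRing.maximalIdeal R')
    (hinj₁ : Function.Injective (algebraMap R R₁)) (hinj : Function.Injective (algebraMap R R'))
    {χ : R₁ →+* R'} (hχ : Function.Injective χ) (hχφ : χ.comp (algebraMap R R₁) = algebraMap R R')
    {C YL : Scheme.{u}} {f : C ⟶ Spec (CommRingCat.of (FractionRing R))}
    (hC : Curve.IsSmoothProperCurve (FractionRing R) C f) (hC0 : IsIso f.appTop)
    (hg : 2 ≤ Models.curveGenus (FractionRing R) C f)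
    (H : Models.HasSemistableReduction R₁ (pullback f (Spec.map (CommRingCat.ofHom (RingAct.fracMap R R₁ hinj₁))))
      (pullback.snd f (Spec.map (CommRingCat.ofHom (RingAct.fracMap R R₁ hinj₁)))))
    {gY : YL ⟶ C} {kY : YL ⟶ Spec (CommRingCat.of (FractionRing R'))}
    (hYL : IsPullback gY kY f (Spec.map (CommRingCat.ofHom (RingAct.fracMap R R' hinj))))
    {YR' : Scheme.{u}} {q : YR' ⟶ Spec (CommRingCat.of R')} {n : ℕ} (hq : StabFam.IsStab q n) {j : YL ⟶ YR'}
    (hj : IsPullback j kY q (Spec.map (CommRingCat.ofHom (algebraMap R' (FractionRing R')))))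
    (aL : G →* Aut YL) (haL1 : ∀ g, (aL g).hom ≫ gY = gY)
    (haL2 : ∀ g, (aL g).hom ≫ kY = kY ≫ (RingAct.fracAct G R' g).hom)
    (a : G →* Aut YR') (ha : ∀ g, (a g).hom ≫ q = q ≫ (RingAct.specAct G R' g).hom)
    (haj : ∀ g, (aL g).hom ≫ j = j ≫ (a g).hom)
    {g : G} (hg1 : ∀ r, g⁻¹ • χ r = χ r)
    {Yk : Scheme.{u}} {ik : Yk ⟶ YR'} {fk : Yk ⟶ Spec (CommRingCat.of (IsLocalRing.ResidueField R'))}
    (hk : IsPullback ik fk q (Spec.map (CommRingCat.ofHom (IsLocalRing.residue R')))) :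
    ik ≫ (a g).hom = ik := by
  have hfp : IsProper f := hC.1
  have hYLc : Curve.IsSmoothProperCurve (FractionRing R') YL kY := by
    let _ : Algebra (FractionRing R) (FractionRing R') := (RingAct.fracMap R R' hinj).toAlgebra
    exact Groth.Agent.Models.H58.CurveBC.isSmoothProperCurve hYL hC hC0
  have hYL0 : IsIso kY.appTop := by
    have hc : CompactSpace C := (quasiCompact_iff_compactSpace f).mp inferInstance
    have hqs : QuasiSeparatedSpace C := (quasiSeparated_iff_quasiSeparatedSpace f).mp inferInstance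
    let _ : Algebra (FractionRing R) (FractionRing R') := (RingAct.fracMap R R' hinj).toAlgebra
    exact Groth.Agent.Models.H58.CurveBC.isIso_appTop hYL hC0
  have hgL : 2 ≤ Models.curveGenus (FractionRing R') YL kY := by
    rw [ActExt.curveGenus_of_isPullback _ hYL]
    exact hg
  obtain ⟨ψ, hψ⟩ := exists_psi (R₁ := R₁) (R' := R') hχ
  obtain ⟨w, hw1, hw2, hw⟩ := exists_w hinj₁ hinj hχφ hψ hYL
  obtain ⟨Y₁, q₁, n₁, j₁, hq₁, hj₁⟩ := exists_stable hinj₁ hC hC0 hg H
  refine TrivFib.main hres hYLc hYL0 hgL hq hj aL a ha haj hψ hw hq₁ hj₁ hg1 ?_ hk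
  apply pullback.hom_ext
  · rw [Category.assoc, hw1, haL1]
  · rw [Category.assoc, hw2, ← Category.assoc, haL2, Category.assoc, fracAct_psi hψ hg1]

end Side

section Kummer

theorem exists_chi {R : Type u} [CommRing R] [IsDomain R] [IsDiscreteValuationRing R] {l m n : ℕ} {π : R}
    (hπ : Irreducible π) (hl : l ≠ 0) (hm : m ≠ 0) (h : l * m = n) :
    ∃ χ : Q l π →ₐ[R] Q n π, Function.Injective χ ∧ ∀ (ζ : Mu n R) (x : Q l π), ζ ^ m = 1 → ζ • χ x = χ x := by
  subst h
  exact ⟨chi l m π, chi_injective hπ hl hm, fun ζ x hζ => smul_chi l m π ζ hζ x⟩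

variable {R : Type u} [CommRing R] [IsDomain R] [IsDiscreteValuationRing R]

/-- Semistable reduction over all the tame extensions `R[π^(1/l)]`. -/
def Good (R : Type u) [CommRing R] [IsDomain R] [IsDiscreteValuationRing R] (π : R) (l : ℕ) {C : Scheme.{u}}
    (f : C ⟶ Spec (CommRingCat.of (FractionRing R))) : Prop :=
  ∀ (R₁ : Type u) [CommRing R₁] [IsDomain R₁] [IsDiscreteValuationRing R₁] [Algebra R R₁] [Module.Finite R R₁]
    (hinj : Function.Injective (algebraMap R R₁)) (w : R₁) (_ : Irreducible w) (_ : w ^ l = algebraMap R R₁ π),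
    Models.HasSemistableReduction R₁ (pullback f (Spec.map (CommRingCat.ofHom (RingAct.fracMap R R₁ hinj))))
      (pullback.snd f (Spec.map (CommRingCat.ofHom (RingAct.fracMap R R₁ hinj))))

theorem Good.kummer {π : R} (hπ : Irreducible π) {l : ℕ} (hl : l ≠ 0) {C : Scheme.{u}}
    {f : C ⟶ Spec (CommRingCat.of (FractionRing R))} (H : Good R π l f) [IsDomain (Q l π)]
    [IsDiscreteValuationRing (Q l π)] (hinj : Function.Injective (algebraMap R (Q l π))) :
    Models.HasSemistableReduction (Q l π) (pullback f (Spec.map (CommRingCat.ofHom (RingAct.fracMap R (Q l π) hinj))))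
      (pullback.snd f (Spec.map (CommRingCat.ofHom (RingAct.fracMap R (Q l π) hinj)))) := by
  have h1 := module_finite (n := l) π hl
  exact H (Q l π) hinj (Q.T l π) (irreducible_T hπ hl) (Q.T_pow l π)

/-- Everything needed for tame descent. -/
theorem main {π : R} (hπ : Irreducible π) {l m n : ℕ} (hl : l ≠ 0) (hm : m ≠ 0) (hlm : l.Coprime m) (hn : l * m = n)
    {C : Scheme.{u}} {f : C ⟶ Spec (CommRingCat.of (FractionRing R))}
    (hC : Curve.IsSmoothProperCurve (FractionRing R) C f) (hC0 : IsIso f.appTop)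
    (hg : 2 ≤ Models.curveGenus (FractionRing R) C f)
    (Hl : Good R π l f) (Hm : Good R π m f)
    [IsDomain (Q n π)] [IsDiscreteValuationRing (Q n π)] (hinj : Function.Injective (algebraMap R (Q n π)))
    {YL : Scheme.{u}} {gY : YL ⟶ C} {kY : YL ⟶ Spec (CommRingCat.of (FractionRing (Q n π)))}
    (hYL : IsPullback gY kY f (Spec.map (CommRingCat.ofHom (RingAct.fracMap R (Q n π) hinj))))
    (aL : Mu n R →* Aut YL) (haL1 : ∀ g, (aL g).hom ≫ gY = gY)
    (haL2 : ∀ g, (aL g).hom ≫ kY = kY ≫ (RingAct.fracAct (Mu n R) (Q n π) g).hom) :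
    ∃ (Y : Scheme.{u}) (q : Y ⟶ Spec (CommRingCat.of (Q n π))) (m : ℕ) (j : YL ⟶ Y) (a : Mu n R →* Aut Y),
      StabFam.IsStab q m ∧
      IsPullback j kY q (Spec.map (CommRingCat.ofHom (algebraMap (Q n π) (FractionRing (Q n π))))) ∧
      (∀ g, (a g).hom ≫ q = q ≫ (RingAct.specAct (Mu n R) (Q n π) g).hom) ∧
      (∀ g, (aL g).hom ≫ j = j ≫ (a g).hom) ∧
      ∀ (Yk : Scheme.{u}) (ik : Yk ⟶ Y) (fk : Yk ⟶ Spec (CommRingCat.of (IsLocalRing.ResidueField (Q n π)))),
        IsPullback ik fk q (Spec.map (CommRingCat.ofHom (IsLocalRing.residue (Q n π)))) → ∀ g, ik ≫ (a g).hom = ik := by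
  have hn0 : n ≠ 0 := by rw [← hn]; exact mul_ne_zero hl hm
  have hfp : IsProper f := hC.1
  have hd1 := Q.isDomain hπ hl
  have hv1 := Q.isDiscreteValuationRing hπ hl
  have hd2 := Q.isDomain hπ hm
  have hv2 := Q.isDiscreteValuationRing hπ hm
  have hinj1 := KumRing.algebraMap_injective hπ hl
  have hinj2 := KumRing.algebraMap_injective hπ hm
  obtain ⟨χ₁, hχ₁, hχ₁'⟩ := exists_chi hπ hl hm hn
  obtain ⟨χ₂, hχ₂, hχ₂'⟩ := exists_chi hπ hm hl ((mul_comm m l).trans hn)
  have hYLc : Curve.IsSmoothProperCurve (FractionRing (Q n π)) YL kY := by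
    let _ : Algebra (FractionRing R) (FractionRing (Q n π)) := (RingAct.fracMap R (Q n π) hinj).toAlgebra
    exact Groth.Agent.Models.H58.CurveBC.isSmoothProperCurve hYL hC hC0
  have hYL0 : IsIso kY.appTop := by
    have hc : CompactSpace C := (quasiCompact_iff_compactSpace f).mp inferInstance
    have hqs : QuasiSeparatedSpace C := (quasiSeparated_iff_quasiSeparatedSpace f).mp inferInstance
    let _ : Algebra (FractionRing R) (FractionRing (Q n π)) := (RingAct.fracMap R (Q n π) hinj).toAlgebra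
    exact Groth.Agent.Models.H58.CurveBC.isIso_appTop hYL hC0
  have hgL : 2 ≤ Models.curveGenus (FractionRing (Q n π)) YL kY := by
    rw [ActExt.curveGenus_of_isPullback _ hYL]
    exact hg
  have hH1 := Hl.kummer hπ hl hinj1
  have hH2 := Hm.kummer hπ hm hinj2
  have hχ₁φ : (χ₁ : Q l π →+* Q n π).comp (algebraMap R (Q l π)) = algebraMap R (Q n π) := χ₁.comp_algebraMap
  have hχ₂φ : (χ₂ : Q m π →+* Q n π).comp (algebraMap R (Q m π)) = algebraMap R (Q n π) := χ₂.comp_algebraMap
  obtain ⟨ψ, hψ⟩ := exists_psi (R₁ := Q l π) (R' := Q n π) (χ := (χ₁ : Q l π →+* Q n π)) hχ₁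
  obtain ⟨w, hw1, hw2, hw⟩ := exists_w hinj1 hinj hχ₁φ hψ hYL
  obtain ⟨Y₁, q₁, n₁, j₁, hq₁, hj₁⟩ := exists_stable hinj1 hC hC0 hg hH1
  have hY' := IsPullback.of_hasPullback q₁ (Spec.map (CommRingCat.ofHom (χ₁ : Q l π →+* Q n π)))
  obtain ⟨j, -, hj⟩ := GenLift.isPullback_lift hψ hj₁ hw hY'
  have hq := hq₁.of_isPullback hY'
  obtain ⟨a, ha, haj⟩ := ActExt.exists_action TrivFib.ext53 hYLc hYL0 hgL hq hj aL haL2
  refine ⟨_, _, n₁, j, a, hq, hj, ha, haj, fun Yk ik fk hk g => ?_⟩
  have hres := smul_sub_mem (n := n) hπ hn0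
  have key1 : ∀ ζ : Mu n R, ζ ^ m = 1 → ζ ∈ TrivFib.fixSubgroup a ik := fun ζ hζ =>
    side hres hinj1 hinj (χ := (χ₁ : Q l π →+* Q n π)) hχ₁ hχ₁φ hC hC0 hg hH1 hYL hq hj aL haL1 haL2 a ha haj
      (fun r => hχ₁' _ _ (by rw [inv_pow, hζ, inv_one])) hk
  have key2 : ∀ ζ : Mu n R, ζ ^ l = 1 → ζ ∈ TrivFib.fixSubgroup a ik := fun ζ hζ =>
    side hres hinj2 hinj (χ := (χ₂ : Q m π →+* Q n π)) hχ₂ hχ₂φ hC hC0 hg hH2 hYL hq hj aL haL1 haL2 a ha haj
      (fun r => hχ₂' _ _ (by rw [inv_pow, hζ, inv_one])) hk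
  have h1 : g ^ l ∈ TrivFib.fixSubgroup a ik := key1 _ (by rw [← pow_mul, hn, KumRing.pow_eq_one])
  have h2 : g ^ m ∈ TrivFib.fixSubgroup a ik := key2 _ (by rw [← pow_mul, mul_comm m l, hn, KumRing.pow_eq_one])
  have h3 : g = (g ^ l) ^ (Nat.gcdA l m) * (g ^ m) ^ (Nat.gcdB l m) := by
    have h4 := Nat.gcd_eq_gcd_ab l m
    rw [hlm.gcd_eq_one, Nat.cast_one] at h4
    rw [← zpow_natCast, ← zpow_natCast, ← zpow_mul, ← zpow_mul, ← zpow_add, ← h4, zpow_one]
  have h5 : g ∈ TrivFib.fixSubgroup a ik := by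
    rw [h3]
    exact mul_mem (zpow_mem h1 _) (zpow_mem h2 _)
  exact h5

end Kummer

end K326.TwoSub
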